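import Cfsg.Agent.H47.Fd.Base
import Cfsg.Agent.H967.CopChev
import Cfsg.Agent.ChevalleyStructure.TorusRange
import Cfsg.Agent.S1033
import Cfsg.Agent.S1054
import Cfsg.Agent.S1055

/-!
# Field data for `G₂`, `F₄`, `E₆`, `E₇`, `E₈` (helper47, TEAM PPD, FD3)
-/

set_option autoImplicit false

namespace Cfsg.Agent.H47.Fd

open Cfsg.Lie Cfsg.Agent.H967.CopMat Cfsg.Agent.H967.CopChev Cfsg.Agent.ChevalleyStructure
  Cfsg.Agent.ChevalleyStructure.Elts

section

variable {D : ChevalleyDatum}

theorem simpleDiag (hD : InList D) (F : Type*) [Field F] : TorusRange.SimpleDiag D F :=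
  fun i hi c hc => Cfsg.Agent.S1033.result D hD i hi c hc

/-- the torus of a simple root -/
noncomputable def tor (hD : InList D) (F : Type*) [Field F] (i : Fin D.rank) : Fˣ →* ↥(D.group F) :=
  ((TorusCount.torusHom D F).comp (MonoidHom.mulSingle (fun _ => Fˣ) i)).codRestrict (D.group F) fun z =>
    diagonal_le_group hD F (TorusRange.torusHom_mulSingle_mem (simpleDiag hD F)
      (fun i hi => (RootComb.good_of_mem hD).simple_lt hi) i z)

theorem coe_tor (hD : InList D) (F : Type*) [Field F] (i : Fin D.rank) (z : Fˣ) :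
    ((tor hD F i z : ↥(D.group F)) : GL D.Idx F) = TorusCount.torusHom D F (Pi.mulSingle i z) := rfl

theorem map_torusHom {F : Type*} [Field F] (σ : F ≃+* F) (c : Fin D.rank → Fˣ) :
    Matrix.GeneralLinearGroup.map (σ : F →+* F) (TorusCount.torusHom D F c) =
      TorusCount.torusHom D F (fun i => Units.map ((σ : F →+* F) : F →* F) (c i)) := by
  apply Units.ext
  have h1 : ((Matrix.GeneralLinearGroup.map (σ : F →+* F) (TorusCount.torusHom D F c) : GL D.Idx F) :
      Matrix D.Idx D.Idx F) = ((TorusCount.torusHom D F c : GL D.Idx F) : Matrix D.Idx D.Idx F).map (σ : F →+* F) := rfl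
  rw [h1, TorusCount.coe_torusHom, TorusCount.coe_torusHom, Matrix.diagonal_map (map_zero _)]
  congr 1
  funext x
  rcases x with j | s
  · exact map_one _
  · simp only [Function.comp_apply, Sum.elim_inr]
    rw [TorusCount.mon_def, TorusCount.mon_def, Units.coe_prod, Units.coe_prod, map_prod]
    refine Finset.prod_congr rfl fun i _ => ?_
    rw [Units.val_zpow_eq_zpow_val, map_zpow₀, Units.val_zpow_eq_zpow_val]
    rfl

theorem fieldAut_tor (hD : InList D) (F : Type*) [Field F] (i : Fin D.rank) (σ : F ≃+* F) (z : Fˣ) :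
    fieldAut (stab_group D F) σ (tor hD F i z) = tor hD F i (Units.map ((σ : F →+* F) : F →* F) z) := by
  apply Subtype.ext
  rw [coe_fieldAut, coe_tor, coe_tor, map_torusHom]
  congr 1
  funext j
  by_cases h : j = i
  · subst h
    rw [Pi.mulSingle_eq_same, Pi.mulSingle_eq_same]
  · rw [Pi.mulSingle_eq_of_ne h, Pi.mulSingle_eq_of_ne h, map_one]

theorem tor_inj (hD : InList D) (F : Type*) [Field F] (i : Fin D.rank) {s : ℕ} (hs : s < D.nroots)
    (h1 : D.cartan i s = 1) {z : Fˣ} (hz : tor hD F i z = 1) : z = 1 := by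
  have h2 : TorusCount.torusHom D F (Pi.mulSingle i z) = 1 := congrArg Subtype.val hz
  rw [TorusCount.torusHom_eq_one_iff] at h2
  have h3 := h2 s hs
  rw [TorusCount.mon_def, Finset.prod_eq_single i] at h3
  · rwa [Pi.mulSingle_eq_same, TorusCount.col_def, h1, zpow_one] at h3
  · intro j _ hj
    rw [Pi.mulSingle_eq_of_ne hj, one_zpow]
  · intro h
    exact absurd (Finset.mem_univ i) h

theorem fd_chev (hD : InList D) {F : Type*} [Field F] [Fintype F] {p N : ℕ} [Fact p.Prime] [CharP F p]
    (hF : Fintype.card F = p ^ N) (hs : IsSimpleGroup ↥(D.group F)) (hna : ¬ IsMulCommutative ↥(D.group F))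
    (i : Fin D.rank) (s : ℕ) (hs' : s < D.nroots) (h1 : D.cartan i s = 1) {c : ℕ} (hc0 : 0 < c) (hc : c ≤ 6)
    (hO : Nat.card (Cfsg.Out ↥(D.group F)) = c * N) : FD p ↥(D.group F) :=
  FD.of_hom (center_eq_bot hs hna) hF (fieldAut (stab_group D F)) (tor hD F i) (fieldAut_tor hD F i)
    (fun _ hz => tor_inj hD F i hs' h1 hz) (small_c hc0 hc) hO

end

variable {F : Type*} [Field F] [Fintype F] (p : ℕ) [hp : Fact p.Prime] [hc : CharP F p]

/-- the order of a finite field is a power of the characteristic -/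
theorem exists_N (F : Type*) [Field F] [Fintype F] (p : ℕ) [hp : Fact p.Prime] [hc : CharP F p] :
    ∃ N : ℕ, 1 ≤ N ∧ Fintype.card F = p ^ N := by
  obtain ⟨n, -, hn⟩ := FiniteField.card F p
  exact ⟨n, n.pos, hn⟩

theorem gcd_le {a b : ℕ} (ha : 0 < a) : 0 < Nat.gcd a b ∧ Nat.gcd a b ≤ a :=
  ⟨Nat.gcd_pos_of_pos_left _ ha, Nat.le_of_dvd ha (Nat.gcd_dvd_left _ _)⟩

/-- **Field data for `G₂`.** -/
theorem fd_g2 (h3 : 3 ≤ Fintype.card F) : FD p ↥(chevG2.group F) := by
  obtain ⟨N, hN, hF⟩ := exists_N F p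
  obtain ⟨hs, hna⟩ := S1055.result (F := F) (by
    by_contra hcon
    push Not at hcon
    have h1 : Fintype.card F ≤ 2 := by
      classical
      have h2 : (Finset.univ : Finset F) ⊆ {0, 1} := by
        intro a _
        rw [Finset.mem_insert, Finset.mem_singleton]
        by_cases h : a = 0
        · exact Or.inl h
        · exact Or.inr (hcon a h)
      exact (Finset.card_le_card h2).trans (Finset.card_le_two)
    omega)
  have hO := S2121.result p N hF (by rw [← hF]; exact h3)
  by_cases h : p = 3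
  · rw [if_pos h] at hO
    exact fd_chev (by simp) hF hs hna ⟨1, by decide⟩ 1 (by decide) (by decide) (c := 2) (by norm_num) (by norm_num) hO
  · rw [if_neg h] at hO
    exact fd_chev (by simp) hF hs hna ⟨1, by decide⟩ 1 (by decide) (by decide) (c := 1) (by norm_num) (by norm_num)
      (by rw [hO, one_mul])

/-- **Field data for `F₄`.** -/
theorem fd_f4 : FD p ↥(chevF4.group F) := by
  obtain ⟨N, hN, hF⟩ := exists_N F p
  obtain ⟨hs, hna⟩ := S1054.result (F := F) chevF4 (by simp)
  obtain ⟨h1, h2⟩ := gcd_le (a := 2) (b := p) (by norm_num)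
  exact fd_chev (by simp) hF hs hna ⟨0, by decide⟩ 7 (by decide) (by decide +kernel) h1 (by omega) (S2122.result p N hF)

/-- **Field data for `E₆`.** -/
theorem fd_e6 : FD p ↥(chevE6.group F) := by
  obtain ⟨N, hN, hF⟩ := exists_N F p
  obtain ⟨hs, hna⟩ := S1054.result (F := F) chevE6 (by simp)
  obtain ⟨h1, h2⟩ := gcd_le (a := 3) (b := p ^ N - 1) (by norm_num)
  exact fd_chev (by simp) hF hs hna ⟨0, by decide⟩ 16 (by decide) (by decide +kernel) (by omega) (by omega)
    (S2123.result p N hF)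

/-- **Field data for `E₇`.** -/
theorem fd_e7 : FD p ↥(chevE7.group F) := by
  obtain ⟨N, hN, hF⟩ := exists_N F p
  obtain ⟨hs, hna⟩ := S1054.result (F := F) chevE7 (by simp)
  obtain ⟨h1, h2⟩ := gcd_le (a := 2) (b := p ^ N - 1) (by norm_num)
  exact fd_chev (by simp) hF hs hna ⟨0, by decide⟩ 1 (by decide) (by decide +kernel) h1 (by omega)
    (S2124.result p N hF)

/-- **Field data for `E₈`.** -/
theorem fd_e8 : FD p ↥(chevE8.group F) := by
  obtain ⟨N, hN, hF⟩ := exists_N F p
  obtain ⟨hs, hna⟩ := S1054.result (F := F) chevE8 (by simp)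
  exact fd_chev (by simp) hF hs hna ⟨0, by decide⟩ 14 (by decide) (by decide +kernel) (c := 1) one_pos (by norm_num)
    (by rw [one_mul]; exact S2125.result p N hF)

end Cfsg.Agent.H47.Fd
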