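import Cfsg.Agent.H47.Fd.Chev
import Cfsg.Agent.H967.CopTw
import Cfsg.Agent.ChevalleyStructure.E6H1
import Cfsg.Agent.S1070
import Cfsg.Agent.S1071
import Cfsg.Agent.H680.TRowD4

/-!
# Field data for `²E₆`, `³D₄` (helper47, TEAM PPD, FD3)
-/

set_option autoImplicit false

namespace Cfsg.Agent.H47.Fd

open Cfsg.Lie Cfsg.Agent.H967.CopMat Cfsg.Agent.H967.CopChev Cfsg.Agent.ChevalleyStructure
  Cfsg.Agent.ChevalleyStructure.Elts

section E6

open Cfsg.Agent.ChevalleyStructure.E6H1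

variable {K : Type*} [Field K]

/-- the torus of the pair of nodes `p₁`, `p₆` -/
def cE (φ : K →+* K) : Kˣ →* (Fin chevE6.rank → Kˣ) where
  toFun z := mk6 z 1 1 1 1 (psi φ z)
  map_one' := ext6 rfl rfl rfl rfl rfl (map_one (psi φ))
  map_mul' a b := ext6 rfl (mul_one 1).symm (mul_one 1).symm (mul_one 1).symm (mul_one 1).symm (map_mul (psi φ) a b)

theorem cE_mem {φ : K →+* K} (hqq : ∀ t, φ (φ t) = t) (z : Kˣ) : cE φ z ∈ fixT φ := by
  rw [mem_fixT]
  refine ext6 ?_ ?_ ?_ ?_ ?_ rfl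
  · apply Units.ext
    exact hqq z
  · exact map_one (psi φ)
  · exact map_one (psi φ)
  · exact map_one (psi φ)
  · exact map_one (psi φ)

/-- the torus in `²E₆(q)` -/
noncomputable def torE {q : ℕ} {φ : K →+* K} (hφ : ∀ t, φ t = t ^ q) (hqq : ∀ t, φ (φ t) = t) :
    Kˣ →* ↥(twistedE6 K q) :=
  ((TorusCount.torusHom chevE6 K).comp (cE φ)).codRestrict (twistedE6 K q) fun z =>
    torusHom_mem_twisted (simpleDiag (by simp) K) hφ ⟨cE φ z, cE_mem hqq z⟩

theorem coe_torE {q : ℕ} {φ : K →+* K} (hφ : ∀ t, φ t = t ^ q) (hqq : ∀ t, φ (φ t) = t) (z : Kˣ) :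
    ((torE hφ hqq z : ↥(twistedE6 K q)) : GL chevE6.Idx K) = TorusCount.torusHom chevE6 K (cE φ z) := rfl

theorem torE_inj {q : ℕ} {φ : K →+* K} (hφ : ∀ t, φ t = t ^ q) (hqq : ∀ t, φ (φ t) = t) {z : Kˣ}
    (hz : torE hφ hqq z = 1) : z = 1 := by
  have h1 : TorusCount.torusHom chevE6 K (cE φ z) = 1 := congrArg Subtype.val hz
  obtain ⟨w, -, hw⟩ := exists_of_ker _ h1
  have h2' := congrFun hw (ix 2)
  have h2 : (1 : Kˣ) = w⁻¹ := h2'
  have h3' := congrFun hw (ix 0)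
  have h3 : z = w := h3'
  rw [h3, ← inv_inv w, ← h2, inv_one]

theorem fieldAut_torE {q : ℕ} {φ : K →+* K} (hφ : ∀ t, φ t = t ^ q) (hqq : ∀ t, φ (φ t) = t) (σ : K ≃+* K) (z : Kˣ) :
    fieldAut (Cfsg.Agent.H967.CopTw.stab_e6 (K := K) q) σ (torE hφ hqq z) =
      torE hφ hqq (Units.map ((σ : K →+* K) : K →* K) z) := by
  apply Subtype.ext
  rw [coe_fieldAut, coe_torE, coe_torE, map_torusHom]
  congr 1
  refine ext6 rfl ?_ ?_ ?_ ?_ ?_
  · exact map_one _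
  · exact map_one _
  · exact map_one _
  · exact map_one _
  · apply Units.ext
    show σ (φ z) = φ (σ z)
    rw [hφ, hφ, map_pow]

/-- **Field data for `²E₆`.** -/
theorem fd_2e6 {K : Type*} [Field K] [Fintype K] (p : ℕ) [hp : Fact p.Prime] [hc : CharP K p] {q : ℕ} (hq : IsPrimePow q)
    (hK : Fintype.card K = q ^ 2) : FD p ↥(twistedE6 K q) := by
  obtain ⟨p', f, hp', hc', hf, rfl, hK'⟩ := Cfsg.Agent.H565.CopTw.exists_params hq hK (by norm_num)
  obtain rfl : p' = p := CharP.eq K hc' hc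
  obtain ⟨φ, hφ, hqq⟩ := TwE6Basic.exists_frob hq hK
  obtain ⟨hs, hna⟩ := S1070.result hq hK
  have hqq' : ∀ t, (φ : K →+* K) ((φ : K →+* K) t) = t := by
    intro t
    have h1 := hqq t
    rw [← hφ, ← hφ] at h1
    exact h1
  obtain ⟨h1, h2⟩ := gcd_le (a := 3) (b := p' ^ f + 1) (by norm_num)
  refine FD.of_hom (center_eq_bot hs hna) hK' (fieldAut (Cfsg.Agent.H967.CopTw.stab_e6 (K := K) _)) (torE hφ hqq')
    (fieldAut_torE hφ hqq') (fun _ hz => torE_inj hφ hqq' hz) (c := Nat.gcd 3 (p' ^ f + 1)) (small_c h1 (by omega)) ?_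
  rw [S2130.result p' f hK' hf]
  ring

end E6

section D4

open Cfsg.Agent.ChevalleyStructure.SL2Hom Cfsg.Agent.H680
open Cfsg.Agent.Cit.HexD4 (pb0 pb0_up pb0_lo pb0_mem)

/-- **Field data for `³D₄`.** -/
theorem fd_3d4 {K : Type*} [Field K] [Fintype K] (p : ℕ) [hp : Fact p.Prime] [hc : CharP K p] {q : ℕ} (hq : IsPrimePow q)
    (hK : Fintype.card K = q ^ 3) : FD p ↥(twistedD4 K q) := by
  obtain ⟨p', f, hp', hc', hf, rfl, hK'⟩ := Cfsg.Agent.H565.CopTw.exists_params hq hK (by norm_num)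
  obtain rfl : p' = p := CharP.eq K hc' hc
  obtain ⟨φ, hφ⟩ := D4Fixed.exists_frob hq hK
  obtain ⟨hs, hna⟩ := S1071.result hq hK
  refine FD.of_hom (center_eq_bot hs hna) hK' (fieldAut (Cfsg.Agent.H967.CopTw.stab_d4 (K := K) _))
    (((pb0 (φ : K →+* K)).codRestrict (twistedD4 K (p' ^ f)) (pb0_mem hφ)).comp TRowBase.dgH) ?_ ?_ (c := 1)
    (small_c one_pos (by norm_num)) ?_
  · intro τ u
    apply Subtype.ext
    show Matrix.GeneralLinearGroup.map (τ : K →+* K) (pb0 φ (TRowBase.dgH u)) = pb0 φ (TRowBase.dgH _)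
    rw [TRowD4.map_pb0 φ (τ : K →+* K) (fun t => by rw [hφ, hφ, map_pow]), TRowBase.map_dgH]
  · intro u hu
    apply TRowBase.dgH_injective
    rw [map_one]
    apply CritD4.pb0_injective (φ : K →+* K)
    rw [map_one]
    exact congrArg Subtype.val hu
  · rw [one_mul, S2129.result p' f hK' hf]

end D4

end Cfsg.Agent.H47.Fd
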