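import Cfsg.Agent.H47.Fd.Base
import Cfsg.Agent.H967.CopSz
import Cfsg.Agent.S1072
import Cfsg.Agent.S1073
import Cfsg.Agent.S1162
import Cfsg.Agent.S2127
import Cfsg.Agent.S2128
import Cfsg.Agent.H88.RkSz
import Cfsg.Agent.H680.XRowTwF4

/-!
# Field data for `Sz(q)`, `²G₂(q)`, `²F₄(q)` (helper47, TEAM PPD, FD3)
-/

set_option autoImplicit false

namespace Cfsg.Agent.H47.Fd

open Cfsg Cfsg.Lie Cfsg.Agent.H967.CopMat Cfsg.Agent.H967.CopSz

/-- **Field data for `Sz(q)`.** -/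
theorem fd_sz {F : Type*} [Field F] [Fintype F] {m : ℕ} (hm : 1 ≤ m) (hF : Fintype.card F = 2 ^ (2 * m + 1)) :
    FD 2 ↥(Cfsg.Lie.Sz F (2 ^ (m + 1))) := by
  have : Fact (Nat.Prime 2) := ⟨Nat.prime_two⟩
  have hc : CharP F 2 := charP_of_card Nat.prime_two hF
  have H := Cfsg.Agent.LieRecognition.SzMatrix.good hF
  have hs : IsSimpleGroup ↥(Cfsg.Lie.Sz F (2 ^ (m + 1))) := S1162.result hm hF
  have hnc : ¬ IsMulCommutative ↥(Cfsg.Lie.Sz F (2 ^ (m + 1))) := by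
    intro h
    have h0 : (1 : F) ≠ 0 := one_ne_zero
    have h1 : H.w * H.u 1 0 = H.u 1 0 * H.w := IsMulCommutative.is_comm.comm _ _
    have h2 : H.w⁻¹ * H.u 1 0 * H.w = H.u 1 0 := by
      rw [mul_assoc, ← h1]
      group
    have h3 := H.inter_trivial (H.u 1 0) (H.u_mem_unip 1 0) (by rw [h2]; exact H.u_mem_borel 1 0)
    rw [← H.u_zero] at h3
    exact one_ne_zero (H.u_inj h3).1
  have hz : Subgroup.center ↥(Cfsg.Lie.Sz F (2 ^ (m + 1))) = ⊥ := center_eq_bot hs hnc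
  refine FD.of_hom hz hF (H70.SzOut.fieldAut H) (H88.RkSz.diag H)
    (fun τ u => H70.SzOut.fieldAut_d H τ u) (fun u hu => H.d_inj (hu.trans H.d_one.symm)) (c := 1)
    (small_c one_pos (by norm_num)) ?_
  rw [one_mul, S2126.result hm hF]

/-- **Field data for `²G₂(q)`.** -/
theorem fd_ree {K : Type*} [Field K] [Fintype K] {m : ℕ} (hm : 1 ≤ m) (hK : Fintype.card K = 3 ^ (2 * m + 1)) :
    FD 3 ↥(Cfsg.Lie.twistedG2 K (3 ^ m)) := by
  have : Fact (Nat.Prime 3) := ⟨Nat.prime_three⟩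
  have hc : CharP K 3 := charP_of_card Nat.prime_three hK
  obtain ⟨hs, hna⟩ := S1073.result hm hK
  obtain ⟨θ, c⟩ := Cfsg.Agent.ChevalleyStructure.Ree.Normal.exists_ctx hK
  obtain ⟨D, hD⟩ : ∃ D, D = Cfsg.Agent.ChevalleyStructure.Ree.Data.data c := ⟨_, rfl⟩
  let h := Cfsg.Agent.ChevalleyStructure.Ree.Data.T c
  let φ : Kˣ →* ↥(Cfsg.Lie.twistedG2 K (3 ^ m)) := { toFun := h, map_one' := D.h_one, map_mul' := D.h_mul }
  have hφ : Function.Injective φ := by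
    intro a b hab
    have h1 : h a = h b := hab
    have h2 : Cfsg.Agent.ChevalleyStructure.Ree.Data.U K (3 ^ m) 0 0 0 * h a =
        Cfsg.Agent.ChevalleyStructure.Ree.Data.U K (3 ^ m) 0 0 0 * h b := by rw [h1]
    exact (D.inj₁ _ _ _ _ _ _ _ _ h2).2.2.2
  refine FD.of_hom (center_eq_bot hs hna) hK (fieldAut (stab_g2 (K := K) (3 ^ m))) φ
    (fun τ u => (H71.FldAut.reeFld c).onH τ u) (fun u hu => hφ (hu.trans (map_one φ).symm)) (c := 1)
    (small_c one_pos (by norm_num)) ?_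
  rw [one_mul, S2127.result hm hK]

/-- **Field data for `²F₄(q)`.** -/
theorem fd_2f4 {K : Type*} [Field K] [Fintype K] {m : ℕ} (hm : 1 ≤ m) (hK : Fintype.card K = 2 ^ (2 * m + 1)) :
    FD 2 ↥(Cfsg.Lie.twistedF4 K (2 ^ m)) := by
  have : Fact (Nat.Prime 2) := ⟨Nat.prime_two⟩
  have hc : CharP K 2 := charP_of_card Nat.prime_two hK
  obtain ⟨hs, hna⟩ := S1072.result hm hK
  refine FD.of_hom (center_eq_bot hs hna) hK (fieldAut (stab_f4 (K := K) (2 ^ m))) (H680.XRowTwF4.tor hK)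
    (H680.XRowTwF4.fieldAut_tor hK _) (fun u hu => H680.XRowTwF4.tor_inj hK hu) (c := 1)
    (small_c one_pos (by norm_num)) ?_
  rw [one_mul, S2128.result hm hK]

end Cfsg.Agent.H47.Fd
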