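import Mathlib
import Cfsg.Prelude.Def_KGroupFacts

/-!
# Field data (helper47, TEAM PPD, S5948, task FD3)

`FD p T` : the order of `Aut T` is `|T| c b` (every prime divisor `≥ 7` of `c` divides `|T|`), `T` has an automorphism `φ` of order `b` and a
`p'`-element `x` with `φ x = x ^ p`, `x ^ p ^ s = x → b ∣ s`.

`FD.of_hom` : a torus `h : Fˣ →* T` on which field automorphisms act naturally, `|F| = p ^ N`, `|Out T| = c N`.
-/

set_option autoImplicit false
set_option linter.unusedSectionVars false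

namespace Cfsg.Agent.H47.Fd

open Subgroup

/-- field data -/
def FD (p : ℕ) (T : Type*) [Group T] : Prop :=
  ∃ (b c : ℕ) (φ : MulAut T) (x : T), Nat.card (MulAut T) = Nat.card T * (c * b) ∧
    (∀ r, r.Prime → 7 ≤ r → r ∣ c → r ∣ Nat.card T) ∧ orderOf φ = b ∧ φ x = x ^ p ∧ ¬ p ∣ orderOf x ∧
    ∀ s, x ^ p ^ s = x → b ∣ s

/-- transport -/
theorem FD.congr {p : ℕ} {S T : Type*} [Group S] [Group T] (e : S ≃* T) (h : FD p S) : FD p T := by
  obtain ⟨b, c, φ, x, h1, h2, h3, h4, h5, h6⟩ := h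
  have hc : Nat.card T = Nat.card S := (Nat.card_congr e.toEquiv).symm
  refine ⟨b, c, MulAut.congr e φ, e x, ?_, ?_, ?_, ?_, ?_, ?_⟩
  · rw [hc, ← h1]
    exact (Nat.card_congr (MulAut.congr e).toEquiv).symm
  · rw [hc]; exact h2
  · rw [← h3]; exact MulEquiv.orderOf_eq (MulAut.congr e) φ
  · show e (φ (e.symm (e x))) = _
    rw [e.symm_apply_apply, h4, map_pow]
  · rwa [MulEquiv.orderOf_eq]
  · intro s hs
    apply h6
    apply e.injective
    rw [map_pow]; exact hs

theorem center_eq_bot {T : Type*} [Group T] (hs : IsSimpleGroup T) (hna : ¬ IsMulCommutative T) : center T = ⊥ := by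
  rcases (inferInstance : (center T).Normal).eq_bot_or_eq_top with h | h
  · exact h
  · exfalso
    apply hna
    refine ⟨⟨fun a b => ?_⟩⟩
    have h1 : a ∈ center T := by rw [h]; exact mem_top _
    exact (mem_center_iff.1 h1 b).symm

theorem card_mulAut {T : Type*} [Group T] (hz : center T = ⊥) :
    Nat.card (MulAut T) = Nat.card T * Nat.card (Cfsg.Out T) := by
  have hinj : Function.Injective (MulAut.conj : T →* MulAut T) := by
    rw [injective_iff_map_eq_one]
    intro a ha
    have h1 : a ∈ center T := by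
      rw [mem_center_iff]
      intro b
      have h2 : (MulAut.conj a : MulAut T) b = b := by rw [ha]; rfl
      rw [MulAut.conj_apply] at h2
      exact (mul_inv_eq_iff_eq_mul.1 h2).symm
    rwa [hz, mem_bot] at h1
  have h1 : Nat.card T = Nat.card (Cfsg.Inn T) :=
    Nat.card_congr (MonoidHom.ofInjective hinj).toEquiv
  have h2 : Nat.card (MulAut T) = Nat.card (Cfsg.Inn T) * (Cfsg.Inn T).index := (Subgroup.card_mul_index _).symm
  rw [h2, h1, Subgroup.index_eq_card]

section

variable {F : Type*} [Field F] [Fintype F] {p N : ℕ} [hp : Fact p.Prime] [CharP F p]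

/-- the Frobenius automorphism -/
noncomputable def frob (F : Type*) [Field F] [Fintype F] (p : ℕ) [Fact p.Prime] [CharP F p] : F ≃+* F :=
  RingEquiv.ofBijective (frobenius F p) (Finite.injective_iff_bijective.1 (RingHom.injective _))

theorem frob_apply (t : F) : frob F p t = t ^ p := rfl

theorem frob_pow (s : ℕ) (t : F) : (frob F p ^ s) t = t ^ p ^ s := by
  induction s generalizing t with
  | zero => rw [pow_zero, pow_zero, pow_one]; rfl
  | succ s ih =>
    rw [pow_succ, pow_succ]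
    show (frob F p ^ s) (frob F p t) = _
    rw [ih, frob_apply, ← pow_mul, mul_comm]

theorem frob_card (hF : Fintype.card F = p ^ N) : frob F p ^ N = 1 := by
  apply RingEquiv.ext
  intro t
  rw [frob_pow, ← hF, FiniteField.pow_card]
  rfl

theorem one_le (hF : Fintype.card F = p ^ N) : 1 ≤ N := by
  rcases Nat.eq_zero_or_pos N with h | h
  · exfalso
    have h1 := Fintype.one_lt_card (α := F)
    rw [hF, h, pow_zero] at h1
    exact lt_irrefl _ h1
  · exact h

theorem orderOf_gen (hF : Fintype.card F = p ^ N) {u : Fˣ} (hu : ∀ x : Fˣ, x ∈ zpowers u) : orderOf u = p ^ N - 1 := by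
  rw [orderOf_eq_card_of_forall_mem_zpowers hu, Nat.card_units, Nat.card_eq_fintype_card, hF]

/-- a generator fixed by the `s`-th power of Frobenius -/
theorem dvd_of_gen (hF : Fintype.card F = p ^ N) {u : Fˣ} (hu : ∀ x : Fˣ, x ∈ zpowers u) {s : ℕ}
    (h : u ^ p ^ s = u) : N ∣ s := by
  have hp1 := hp.out.one_lt
  have h1 : u ^ (p ^ s - 1) = 1 := by
    have h2 : 1 ≤ p ^ s := Nat.one_le_pow _ _ (by omega)
    have h3 : u ^ (p ^ s - 1) * u = u := by
      rw [← pow_succ, Nat.sub_add_cancel h2, h]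
    exact mul_eq_right.1 h3
  have h2 := orderOf_dvd_of_pow_eq_one h1
  rw [orderOf_gen hF hu] at h2
  have h3 : Nat.gcd (p ^ N - 1) (p ^ s - 1) = p ^ Nat.gcd N s - 1 := Nat.pow_sub_one_gcd_pow_sub_one p N s
  rw [Nat.gcd_eq_left h2] at h3
  have h4 : 1 ≤ p ^ N := Nat.one_le_pow _ _ (by omega)
  have h5 : 1 ≤ p ^ Nat.gcd N s := Nat.one_le_pow _ _ (by omega)
  have h6 : p ^ N = p ^ Nat.gcd N s := by omega
  have h7 := Nat.pow_right_injective hp.out.two_le h6
  rw [h7]
  exact Nat.gcd_dvd_right _ _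

/-- **Field data from a torus**. -/
theorem FD.of_hom {T : Type*} [Group T] (hz : center T = ⊥) (hF : Fintype.card F = p ^ N)
    (φ : (F ≃+* F) →* MulAut T) (h : Fˣ →* T)
    (hφ : ∀ (τ : F ≃+* F) (u : Fˣ), φ τ (h u) = h (Units.map ((τ : F →+* F) : F →* F) u))
    (hinj : ∀ u, h u = 1 → u = 1) {c : ℕ} (hc : ∀ r, r.Prime → 7 ≤ r → r ∣ c → r ∣ Nat.card T)
    (hO : Nat.card (Cfsg.Out T) = c * N) : FD p T := by
  obtain ⟨u, hu⟩ := IsCyclic.exists_generator (α := Fˣ)
  have hh : Function.Injective h := (injective_iff_map_eq_one h).2 hinj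
  have hmap : ∀ s, Units.map (((frob F p ^ s : F ≃+* F) : F →+* F) : F →* F) u = u ^ p ^ s := by
    intro s
    apply Units.ext
    rw [Units.val_pow_eq_pow_val]
    exact frob_pow s (u : F)
  have hpow : ∀ s, (φ (frob F p) ^ s) (h u) = h u ^ p ^ s := by
    intro s
    rw [← map_pow, hφ, hmap, map_pow]
  have hfix : ∀ s, h u ^ p ^ s = h u → N ∣ s := by
    intro s hs
    rw [← map_pow] at hs
    exact dvd_of_gen hF hu (hh hs)
  refine ⟨N, c, φ (frob F p), h u, ?_, hc, ?_, ?_, ?_, hfix⟩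
  · rw [card_mulAut hz, hO]
  · apply Nat.dvd_antisymm
    · apply orderOf_dvd_of_pow_eq_one
      rw [← map_pow, frob_card hF, map_one]
    · apply hfix
      rw [← hpow, pow_orderOf_eq_one]
      rfl
  · have h1 := hpow 1
    rwa [pow_one, pow_one] at h1
  · rw [orderOf_injective h hh, orderOf_gen hF hu]
    intro h1
    have h2 : p ∣ p ^ N := dvd_pow_self p (Nat.one_le_iff_ne_zero.1 (one_le hF))
    have h3 := Nat.dvd_sub h2 h1
    have h4 : 1 ≤ p ^ N := Nat.one_le_pow _ _ hp.out.pos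
    rw [Nat.sub_sub_self h4] at h3
    exact hp.out.one_lt.ne' (Nat.dvd_one.1 h3)

end

/-- the small factors of `|Out|` -/
theorem small_c {c M : ℕ} (hc : 0 < c) (h : c ≤ 6) : ∀ r, r.Prime → 7 ≤ r → r ∣ c → r ∣ M := by
  intro r _ h7 hr
  have := Nat.le_of_dvd hc hr
  omega

end Cfsg.Agent.H47.Fd
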